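import Groth.Prelude.Def_LefPen
import Mathlib.RingTheory.MvPolynomial.IrreducibleQuadratic
import Mathlib.GroupTheory.CosetCover

/-!
# Squarefree forms form a nonempty open set

`F` is squarefree iff it is prime to some combination `D` of its partial derivatives, i.e. iff there is
no non-trivial relation `A F + B D = 0` in small degrees; the latter is an open condition.
-/

set_option autoImplicit false
set_option linter.style.haveILetI false

open MvPolynomial

namespace Groth.Agent.SqfForms

universe u

variable {k : Type u} [Field k] {σ : Type} [Fintype σ]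

theorem degree_lt_of_mem_support_pderiv {p : MvPolynomial σ k} {i : σ} {m : σ →₀ ℕ}
    (hm : m ∈ (pderiv i p).support) : m.degree + 1 ≤ p.totalDegree := by
  classical
  rw [mem_support_iff, coeff_pderiv] at hm
  have h := le_totalDegree (p := p) (mem_support_iff.2 (left_ne_zero_of_mul hm))
  have e : (m + Finsupp.single i 1).degree = m.degree + 1 := by
    simp [Finsupp.degree, map_add]
  rw [← e]
  exact h

/-- Over an algebraically closed field a prime does not divide all its partial derivatives. -/
theorem exists_not_dvd_pderiv [IsAlgClosed k] {p : MvPolynomial σ k} (hp : Prime p) :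
    ∃ i, ¬ p ∣ pderiv i p := by
  classical
  by_contra h
  push Not at h
  have hzero : ∀ i, pderiv i p = 0 := fun i => by
    by_contra hne
    obtain ⟨c, hc⟩ := h i
    have hc0 : c ≠ 0 := fun h0 => hne (by rw [hc, h0, mul_zero])
    obtain ⟨m, hm, hdeg⟩ := Finset.exists_mem_eq_sup (pderiv i p).support (support_nonempty.2 hne)
      fun m => m.sum fun _ e => e
    have h1 := degree_lt_of_mem_support_pderiv hm
    have h2 : (pderiv i p).totalDegree = p.totalDegree + c.totalDegree := by
      rw [hc, totalDegree_mul_of_isDomain hp.ne_zero hc0]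
    have h3 : (pderiv i p).totalDegree = m.degree := hdeg.trans rfl
    omega
  have hm0 : ∀ m ∈ p.support, ∀ i, (m i : k) = 0 := by
    intro m hm i
    by_contra hne
    have hpos : 1 ≤ m i := Nat.one_le_iff_ne_zero.2 fun h0 => hne (by simp [h0])
    have hsub : (m - Finsupp.single i 1) + Finsupp.single i 1 = m :=
      tsub_add_cancel_of_le (Finsupp.single_le_iff.2 hpos)
    have hc := congrArg (coeff (m - Finsupp.single i 1)) (hzero i)
    rw [coeff_pderiv, hsub, coeff_zero, mul_eq_zero] at hc
    rcases hc with hc | hc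
    · exact mem_support_iff.1 hm hc
    · apply hne
      have e : (m - Finsupp.single i 1 : σ →₀ ℕ) i + 1 = m i := by simp; omega
      rw [← e]
      push_cast
      exact hc
  have hnc : ∃ m ∈ p.support, m ≠ 0 := by
    by_contra h0
    push Not at h0
    have hC : p = C (coeff 0 p) := MvPolynomial.ext _ _ fun m => by
      rw [coeff_C]
      split_ifs with hm
      · rw [← hm]
      · exact notMem_support_iff.1 fun hmem => hm (h0 m hmem).symm
    exact hp.not_unit (hC ▸ (IsUnit.mk0 (coeff 0 p) fun h0' => hp.ne_zero (by rw [hC, h0', map_zero])).map C)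
  obtain ⟨m, hm, hmne⟩ := hnc
  obtain ⟨i, hi⟩ : ∃ i, m i ≠ 0 := by
    by_contra hall
    push Not at hall
    exact hmne (Finsupp.ext hall)
  obtain ⟨ℓ, hℓ⟩ := CharP.exists k
  rcases CharP.char_is_prime_or_zero k ℓ with hprime | rfl
  swap
  · haveI := CharP.charP_to_charZero k
    exact hi (Nat.cast_eq_zero.1 (hm0 m hm i))
  haveI : Fact ℓ.Prime := ⟨hprime⟩
  have hdiv : ∀ m ∈ p.support, ∀ i, ℓ ∣ m i := fun m hm i => (CharP.cast_eq_zero_iff k ℓ _).1 (hm0 m hm i)
  have hroot : ∀ c : k, ∃ z, z ^ ℓ = c := fun c => IsAlgClosed.exists_pow_nat_eq c hprime.pos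
  choose z hz using hroot
  let r : MvPolynomial σ k :=
    ∑ m ∈ p.support, monomial (m.mapRange (· / ℓ) (Nat.zero_div _)) (z (coeff m p))
  haveI : ExpChar (MvPolynomial σ k) ℓ := ExpChar.prime hprime
  have hr : r ^ ℓ = p := by
    rw [sum_pow_char]
    conv_rhs => rw [p.as_sum]
    refine Finset.sum_congr rfl fun m hm => ?_
    rw [monomial_pow, hz, show ℓ • m.mapRange (· / ℓ) (Nat.zero_div _) = m from
      Finsupp.ext fun j => by simp [Nat.mul_div_cancel' (hdiv m hm j)]]
  have hirr := hp.irreducible
  have hru : ¬ IsUnit r := fun hu => hp.not_unit (hr ▸ hu.pow ℓ)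
  have hspl : p = r * r ^ (ℓ - 1) := by
    rw [← pow_succ', Nat.sub_add_cancel hprime.one_le, hr]
  rcases hirr.isUnit_or_isUnit hspl with h' | h'
  · exact hru h'
  · exact hru ((isUnit_pow_iff (by have := hprime.two_le; omega)).1 h')

/-- A squarefree polynomial is prime to some linear combination of its partial derivatives. -/
theorem exists_isRelPrime [IsAlgClosed k] {F : MvPolynomial σ k} (hF : Squarefree F) (hF0 : F ≠ 0) :
    ∃ c : σ → k, IsRelPrime F (∑ i, c i • pderiv i F) := by
  classical
  haveI : Infinite k := IsAlgClosed.instInfinite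
  let S := (UniqueFactorizationMonoid.factors F).toFinset
  let L : (σ → k) →ₗ[k] MvPolynomial σ k :=
    ∑ i, (LinearMap.proj i).smulRight (pderiv i F)
  have hL : ∀ c, L c = ∑ i, c i • pderiv i F := fun c => by simp [L]
  let W : ↥S → Submodule k (σ → k) := fun p =>
    ((Ideal.span ({(p : MvPolynomial σ k)} : Set _)).restrictScalars k).comap L
  have hW : ∀ p, W p ≠ ⊤ := fun p htop => by
    have hpmem := Multiset.mem_toFinset.1 p.2
    have hp := UniqueFactorizationMonoid.prime_of_factor _ hpmem
    obtain ⟨i, hi⟩ := exists_not_dvd_pderiv hp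
    obtain ⟨q, hq⟩ := UniqueFactorizationMonoid.dvd_of_mem_factors hpmem
    have hmem : Pi.single i 1 ∈ W p := htop ▸ Submodule.mem_top
    have h1 : (p : MvPolynomial σ k) ∣ pderiv i F := by
      have h2 : L (Pi.single i 1) ∈ Ideal.span ({(p : MvPolynomial σ k)} : Set _) := hmem
      rw [hL, Finset.sum_eq_single i (fun j _ hj => by simp [hj]) (fun h => absurd (Finset.mem_univ i) h),
        Pi.single_eq_same, one_smul] at h2
      exact Ideal.mem_span_singleton.1 h2
    rw [hq, pderiv_mul] at h1
    have h3 : (p : MvPolynomial σ k) ∣ pderiv i (p : MvPolynomial σ k) * q :=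
      (dvd_add_left (dvd_mul_right _ _)).1 h1
    rcases hp.dvd_or_dvd h3 with h4 | h4
    · exact hi h4
    · exact hp.not_unit (hF _ (by rw [hq]; exact mul_dvd_mul_left _ h4))
  obtain ⟨c, hc⟩ : ∃ c, ∀ p, c ∉ W p := by
    by_contra hcon
    push Not at hcon
    obtain ⟨p, hp⟩ := Subspace.exists_eq_top_of_iUnion_eq_univ (p := W)
      (Set.eq_univ_of_forall fun c => Set.mem_iUnion.2 (hcon c))
    exact hW p hp
  refine ⟨c, (UniqueFactorizationMonoid.isRelPrime_iff_no_prime_factors hF0).2 fun d hdF hdD hd => ?_⟩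
  obtain ⟨p, hp, hpa⟩ := UniqueFactorizationMonoid.exists_mem_factors_of_dvd hF0 hd.irreducible hdF
  refine hc ⟨p, Multiset.mem_toFinset.2 hp⟩ ?_
  show L c ∈ Ideal.span ({p} : Set _)
  rw [hL, Ideal.mem_span_singleton]
  exact hpa.symm.dvd.trans hdD

theorem sum_subtype_coeff (P : (σ →₀ ℕ) → Prop) [Fintype {m // P m}] (A G : MvPolynomial σ k)
    (hA : ∀ m ∈ A.support, P m) :
    ∑ m : {m // P m}, coeff m.1 A • (monomial m.1 (1 : k) * G) = A * G := by
  classical
  conv_rhs => rw [A.as_sum, Finset.sum_mul]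
  refine (Finset.sum_bij_ne_zero (fun m _ _ => m.1) ?_ ?_ ?_ ?_)
  · intro m _ hne
    exact mem_support_iff.2 fun h0 => hne (by rw [h0, zero_smul])
  · intro a _ _ b _ _ h
    exact Subtype.ext h
  · intro m hm _
    refine ⟨⟨m, hA m hm⟩, Finset.mem_univ _, ?_, rfl⟩
    intro h0
    simp_all [← smul_mul_assoc, smul_monomial]
  · intro m _ _
    rw [← smul_mul_assoc, smul_monomial, smul_eq_mul, mul_one]

section Open

variable (c : σ → k) (d : ℕ)

/-- Exponents of degree `< e`. -/
abbrev Ex (σ : Type) (e : ℕ) : Type := {m : σ →₀ ℕ // m.degree < e}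

instance instFiniteEx (e : ℕ) : Finite (Ex σ e) := by
  refine Finite.of_injective (fun m i => (⟨min (m.1 i) e, by omega⟩ : Fin (e + 1))) fun a b h => ?_
  refine Subtype.ext (Finsupp.ext fun i => ?_)
  have h1 := congrArg Fin.val (congrFun h i)
  have ha := Finsupp.le_degree i a.1
  have hb := Finsupp.le_degree i b.1
  have := a.2
  have := b.2
  simp only at h1
  omega

noncomputable instance (e : ℕ) : Fintype (Ex σ e) := Fintype.ofFinite _

/-- `D_c(w) = Σ c_i ∂_i w`. -/
noncomputable def dc : MvPolynomial σ k →ₗ[k] MvPolynomial σ k := ∑ i, c i • (pderiv i).toLinearMap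

theorem dc_apply (w : MvPolynomial σ k) : dc c w = ∑ i, c i • pderiv i w := by simp [dc]

/-- The family whose independence detects coprimality of `w` and `D_c(w)`. -/
noncomputable def fam : Ex σ (d - 1) ⊕ Ex σ d → MvPolynomial σ k →ₗ[k] MvPolynomial σ k
  | Sum.inl m => LinearMap.mulLeft k (monomial m.1 1)
  | Sum.inr m => (LinearMap.mulLeft k (monomial m.1 1)).comp (dc c)

theorem linearIndependent_fam {F : MvPolynomial σ k} (hh : F.IsHomogeneous d) (hF0 : F ≠ 0)
    (h : IsRelPrime F (dc c F)) : LinearIndependent k fun j => fam c d j F := by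
  classical
  rw [Fintype.linearIndependent_iff]
  intro g hg
  rw [Fintype.sum_sum_type] at hg
  let A : MvPolynomial σ k := ∑ m : Ex σ (d - 1), monomial m.1 (g (Sum.inl m))
  let B : MvPolynomial σ k := ∑ m : Ex σ d, monomial m.1 (g (Sum.inr m))
  have hAB : A * F + B * dc c F = 0 := by
    rw [← hg, Finset.sum_mul, Finset.sum_mul]
    congr 1 <;> refine Finset.sum_congr rfl fun m _ => ?_
    all_goals simp [fam, ← smul_mul_assoc, smul_monomial]
  have hcoefA : ∀ m, coeff m.1 A = g (Sum.inl m) := fun m => by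
    simp [A, coeff_sum, coeff_monomial, Subtype.coe_inj]
  have hcoefB : ∀ m, coeff m.1 B = g (Sum.inr m) := fun m => by
    simp [B, coeff_sum, coeff_monomial, Subtype.coe_inj]
  have hdvd : F ∣ B * dc c F := ⟨-A, by linear_combination hAB⟩
  have hB : B = 0 := by
    by_contra hB0
    obtain ⟨q, hq⟩ := h.dvd_of_dvd_mul_right hdvd
    have hq0 : q ≠ 0 := fun h0 => hB0 (by rw [hq, h0, mul_zero])
    have h1 : B.totalDegree = d + q.totalDegree := by
      rw [hq, totalDegree_mul_of_isDomain hF0 hq0, hh.totalDegree hF0]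
    obtain ⟨m, hm, hdeg⟩ := Finset.exists_mem_eq_sup B.support (support_nonempty.2 hB0)
      fun m => m.sum fun _ e => e
    obtain ⟨m', -, hm'⟩ := Finset.exists_ne_zero_of_sum_ne_zero
      (s := Finset.univ) (f := fun m' : Ex σ d => coeff m (monomial m'.1 (g (Sum.inr m'))))
      (by rw [← coeff_sum]; exact mem_support_iff.1 hm)
    rw [coeff_monomial] at hm'
    obtain rfl : m'.1 = m := by
      by_contra hne
      simp [hne] at hm'
    have h3 : B.totalDegree = m'.1.degree := hdeg.trans rfl
    have := m'.2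
    omega
  have hA : A = 0 := by
    rw [hB, zero_mul, add_zero] at hAB
    exact (mul_eq_zero.1 hAB).resolve_right hF0
  rintro (m | m)
  · rw [← hcoefA, hA, coeff_zero]
  · rw [← hcoefB, hB, coeff_zero]

theorem squarefree_of_linearIndependent (hd : 1 ≤ d) {F : MvPolynomial σ k} (hh : F.IsHomogeneous d)
    (h : LinearIndependent k fun j => fam c d j F) : Squarefree F := by
  classical
  rw [Fintype.linearIndependent_iff] at h
  -- a nonzero relation `A F + B D = 0` in small degrees is impossible
  have key : ∀ A B : MvPolynomial σ k, (∀ m ∈ A.support, m.degree < d - 1) → (∀ m ∈ B.support, m.degree < d) →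
      A * F + B * dc c F = 0 → B = 0 := by
    intro A B hA hB hAB
    have h0 := h (Sum.elim (fun m => coeff m.1 A) (fun m => coeff m.1 B)) (by
      rw [Fintype.sum_sum_type]
      simp only [Sum.elim_inl, Sum.elim_inr, fam, LinearMap.mulLeft_apply, LinearMap.comp_apply]
      rw [sum_subtype_coeff _ A F hA, sum_subtype_coeff _ B (dc c F) hB, hAB])
    refine MvPolynomial.ext _ _ fun m => ?_
    rw [coeff_zero]
    by_cases hm : m ∈ B.support
    · exact h0 (Sum.inr ⟨m, hB m hm⟩)
    · exact notMem_support_iff.1 hm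
  have hD : dc c F ≠ 0 := fun h0 => one_ne_zero (key 0 1 (by simp) (fun m hm => by
    rw [show (1 : MvPolynomial σ k) = monomial 0 1 from rfl, support_monomial, if_neg one_ne_zero,
      Finset.mem_singleton] at hm
    simp [hm]
    omega) (by rw [h0]; ring))
  have hF0 : F ≠ 0 := fun h0 => hD (by rw [h0, map_zero])
  intro G hG
  by_contra hu
  obtain ⟨H, hH⟩ := hG
  have hG0 : G ≠ 0 := fun h0 => hF0 (by rw [hH, h0]; ring)
  have hH0 : H ≠ 0 := fun h0 => hF0 (by rw [hH, h0]; ring)
  have hGd : 1 ≤ G.totalDegree := Nat.one_le_iff_ne_zero.2 fun h0 => hu (by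
    have hC := totalDegree_eq_zero_iff_eq_C.1 h0
    rw [hC]
    exact (IsUnit.mk0 _ fun h1 => hG0 (by rw [hC, h1, map_zero])).map C)
  let E : MvPolynomial σ k := ∑ i, c i • (2 * pderiv i G * H + G * pderiv i H)
  have hDE : dc c F = G * E := by
    rw [dc_apply, Finset.mul_sum]
    refine Finset.sum_congr rfl fun i _ => ?_
    rw [hH, pderiv_mul, pderiv_mul, mul_smul_comm]
    congr 1
    ring
  have hE0 : E ≠ 0 := fun h0 => hD (by rw [hDE, h0, mul_zero])
  have hdeg : (G * H).totalDegree < d := by
    have e1 : F.totalDegree = G.totalDegree + (G.totalDegree + H.totalDegree) := by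
      rw [hH, mul_assoc, totalDegree_mul_of_isDomain hG0 (mul_ne_zero hG0 hH0),
        totalDegree_mul_of_isDomain hG0 hH0]
    rw [hh.totalDegree hF0] at e1
    rw [totalDegree_mul_of_isDomain hG0 hH0]
    omega
  have hEdeg : E.totalDegree < d - 1 := by
    have e1 : (dc c F).totalDegree ≤ d - 1 := by
      refine Finset.sup_le fun m hm => ?_
      show m.degree ≤ d - 1
      obtain ⟨i, -, hi⟩ : ∃ i ∈ Finset.univ, coeff m (c i • pderiv i F) ≠ 0 :=
        Finset.exists_ne_zero_of_sum_ne_zero (by rw [← coeff_sum, ← dc_apply]; exact mem_support_iff.1 hm)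
      rw [coeff_smul, smul_eq_mul] at hi
      have := degree_lt_of_mem_support_pderiv (mem_support_iff.2 (right_ne_zero_of_mul hi))
      rw [hh.totalDegree hF0] at this
      omega
    rw [hDE, totalDegree_mul_of_isDomain hG0 hE0] at e1
    omega
  have h2 : -(G * H) = 0 := key E (-(G * H)) (fun m hm => (le_totalDegree hm).trans_lt hEdeg)
    (fun m hm => (le_totalDegree hm).trans_lt (by rwa [totalDegree_neg]))
    (by rw [hDE, hH]; ring)
  exact mul_ne_zero hG0 hH0 (neg_eq_zero.1 h2)

end Open

theorem isPolyFun_det {V : Type u} [AddCommGroup V] [Module k V] {ι : Type} [Fintype ι] [DecidableEq ι]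
    (M : ι → ι → V →ₗ[k] k) : LefPen.IsPolyFun k fun w => (Matrix.of fun i j => M i j w).det := by
  have he : (fun w => (Matrix.of fun i j => M i j w).det) =
      (Matrix.of fun i j => ((M i j : V →ₗ[k] k) : V → k)).det := by
    funext w
    exact ((Pi.evalRingHom (fun _ : V => k) w).map_det (Matrix.of fun i j => ((M i j : V →ₗ[k] k) : V → k))).symm
  rw [LefPen.IsPolyFun, he, Matrix.det_apply]
  refine Subalgebra.sum_mem _ fun σ' _ => ?_
  rw [Units.smul_def]
  refine zsmul_mem (Subalgebra.prod_mem _ fun i _ => ?_) _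
  exact Algebra.subset_adjoin ⟨M (σ' i) i, rfl⟩

theorem isRelPrime_lin {σ : Type} {a b : k} {i j : σ} (hij : i ≠ j) (hab : a ≠ b)
    (ha : Irreducible (X i + C a * X j : MvPolynomial σ k)) :
    IsRelPrime (X i + C a * X j : MvPolynomial σ k) (X i + C b * X j) := by
  classical
  refine ha.isRelPrime_iff_not_dvd.2 fun hdvd => ?_
  have h := (eval (fun t => if t = i then a else -1)).map_dvd hdvd
  simp [hij.symm, ← sub_eq_add_neg, sub_eq_zero, hab] at h

theorem irreducible_lin {σ : Type} {a : k} {i j : σ} (hij : i ≠ j) :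
    Irreducible (X i + C a * X j : MvPolynomial σ k) := by
  classical
  have hci : coeff (Finsupp.single i 1) (X i + C a * X j : MvPolynomial σ k) = 1 := by
    simp [coeff_X', coeff_C_mul, Finsupp.single_left_inj, hij.symm]
  refine irreducible_of_totalDegree_eq_one (le_antisymm ?_ ?_) fun x hx => isUnit_of_dvd_one (hci ▸ hx _)
  · refine (totalDegree_add _ _).trans (max_le (totalDegree_X i).le ((totalDegree_mul _ _).trans ?_))
    simp [totalDegree_C, totalDegree_X]
  · refine le_trans ?_ (le_totalDegree (mem_support_iff.2 (hci.trans_ne one_ne_zero)))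
    simp

theorem squarefree_prod_lin {σ : Type} {i j : σ} (hij : i ≠ j) (s : Finset k) :
    Squarefree (∏ a ∈ s, (X i + C a * X j : MvPolynomial σ k)) := by
  classical
  induction s using Finset.induction with
  | empty => simp
  | @insert a t ha ih =>
    rw [Finset.prod_insert ha, squarefree_mul_iff]
    exact ⟨IsRelPrime.prod_right fun b hb => isRelPrime_lin hij (fun h => ha (h ▸ hb)) (irreducible_lin hij),
      (irreducible_lin hij).squarefree, ih⟩

theorem exists_squarefree [IsAlgClosed k] (n d : ℕ) (hn : 1 ≤ n) :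
    ∃ F : MvPolynomial (Fin (n + 1)) k, F.IsHomogeneous d ∧ Squarefree F := by
  classical
  haveI : Infinite k := IsAlgClosed.instInfinite
  obtain ⟨s, hs⟩ := Infinite.exists_subset_card_eq k d
  let i : Fin (n + 1) := ⟨0, by omega⟩
  let j : Fin (n + 1) := ⟨1, by omega⟩
  have hij : i ≠ j := by simp [i, j, Fin.ext_iff]
  refine ⟨∏ a ∈ s, (X i + C a * X j), ?_, squarefree_prod_lin hij s⟩
  have := IsHomogeneous.prod (R := k) s (fun a => (X i + C a * X j : MvPolynomial (Fin (n + 1)) k)) (fun _ => 1)
    fun a _ => (isHomogeneous_X k i).add (isHomogeneous_C_mul_X a j)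
  simpa [hs] using this

theorem main [IsAlgClosed k] (n d : ℕ) (hn : 1 ≤ n) (hd : 1 ≤ d) :
    LefPen.IsZOpen k {F : LefPen.Form n k d | Squarefree F.1} ∧
      ({F : LefPen.Form n k d | Squarefree F.1}).Nonempty := by
  classical
  refine ⟨fun F hF => ?_, ?_⟩
  swap
  · obtain ⟨F, h1, h2⟩ := exists_squarefree (k := k) n d hn
    exact ⟨⟨F, (mem_homogeneousSubmodule d F).2 h1⟩, h2⟩
  have hFh : F.1.IsHomogeneous d := (mem_homogeneousSubmodule d F.1).1 F.2
  have hF' : Squarefree F.1 := hF
  have hF0 : F.1 ≠ 0 := fun h0 => by rw [h0] at hF'; exact not_squarefree_zero hF'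
  obtain ⟨c, hc⟩ := exists_isRelPrime hF' hF0
  have hli := linearIndependent_fam c d hFh hF0 (by rw [dc_apply]; exact hc)
  let φ := Finsupp.linearCombination k fun j => fam c d j F.1
  obtain ⟨L, hL⟩ := φ.exists_leftInverse_of_injective (LinearMap.ker_eq_bot.2 hli)
  let M : Ex (Fin (n + 1)) (d - 1) ⊕ Ex (Fin (n + 1)) d → Ex (Fin (n + 1)) (d - 1) ⊕ Ex (Fin (n + 1)) d →
      (LefPen.Form n k d →ₗ[k] k) := fun i j =>
    (Finsupp.lapply i).comp (L.comp ((fam c d j).comp (Submodule.subtype _)))
  refine ⟨_, isPolyFun_det M, ?_, fun w hw => ?_⟩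
  · have h1 : (Matrix.of fun i j => M i j F) = 1 := by
      ext i j
      have h2 := congr($hL (Finsupp.single j 1))
      simp only [LinearMap.comp_apply, φ, Finsupp.linearCombination_single, one_smul, LinearMap.id_apply] at h2
      show L (fam c d j F.1) i = _
      rw [h2, Finsupp.single_apply, Matrix.one_apply]
      congr 1
      exact propext eq_comm
    rw [h1, Matrix.det_one]
    exact one_ne_zero
  · refine squarefree_of_linearIndependent c d hd ((mem_homogeneousSubmodule d w.1).1 w.2) ?_
    have hc' := Matrix.linearIndependent_cols_of_det_ne_zero hw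
    refine LinearIndependent.of_comp (Finsupp.linearEquivFunOnFinite k k _ |>.toLinearMap.comp L) ?_
    exact hc'

end Groth.Agent.SqfForms
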